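import Cfsg.Agent.H818.StrP.Row_m3
import Cfsg.Agent.S0058
import Cfsg.Agent.S0126
import Cfsg.Agent.Lib.Cores
import Cfsg.Agent.FastGrp
import Cfsg.Agent.Prune
set_option linter.all false
prune_inst 0x7f00000000000000000000000000000000000000000000000000000000000000000000000000000000000000000000000000000000000000000000000000000000000000000000000000000000000000003fffffffffffffffffffffffffffbeffbdffffffff
open scoped Cfsg.Agent.FastGrp

-- part: H367/PU/TIAct
section
/-!
# S5258, PU-U3: TI Sylow subgroups (helper367)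

* `card_dvd_of_free` : free actions;
* `card_modEq` : `|P|` divides `|Syl_p(G)| - 1` when `P` is TI;
* `conj_trans` : if `|Syl_p(G)| = |P| + 1` then `P` is transitive on the other Sylow subgroups;
* `card_sylow_normal` : `|Syl_p(K)| = |Syl_p(X)|` for `K ⊴ X`, `p ∣ |K|`;
* `core_comm` : `O_{p'}(G)` centralizes `P` when `P` is TI and contains a noncyclic abelian subgroup.
-/

set_option autoImplicit false
set_option linter.unusedSectionVars false

namespace Cfsg.Agent.H367.PU

open Subgroup Cfsg.Agent.H666.TI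
open scoped Pointwise

/-! ### free actions -/

theorem card_dvd_of_free {H α : Type*} [Group H] [MulAction H α] [Finite H] [Finite α]
    (h : ∀ (g : H) (a : α), g • a = a → g = 1) : Nat.card H ∣ Nat.card α := by
  classical
  have : Fintype H := Fintype.ofFinite H
  have : Fintype α := Fintype.ofFinite α
  have h1 := MulAction.card_eq_sum_card_group_div_card_stabilizer H α
  rw [Nat.card_eq_fintype_card (α := α), h1]
  refine Finset.dvd_sum fun ω _ => ?_
  have h2 : MulAction.stabilizer H (Quotient.out ω : α) = ⊥ := by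
    rw [eq_bot_iff]
    intro g hg
    exact h g _ (MulAction.mem_stabilizer_iff.1 hg)
  have h3 : Fintype.card (MulAction.stabilizer H (Quotient.out ω : α)) = 1 := by
    rw [← Nat.card_eq_fintype_card, h2, Subgroup.card_bot]
  rw [h3, Nat.div_one, Nat.card_eq_fintype_card]

theorem orbit_eq_univ_of_free {H α : Type*} [Group H] [MulAction H α] [Finite H] [Finite α]
    (h : ∀ (g : H) (a : α), g • a = a → g = 1) (hc : Nat.card α = Nat.card H) (a b : α) : ∃ g : H, g • a = b := by
  classical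
  have : Fintype H := Fintype.ofFinite H
  have : Fintype α := Fintype.ofFinite α
  have h1 : Function.Injective fun g : H => g • a := by
    intro g g' hgg
    have h2 : (g'⁻¹ * g) • a = a := by
      have h3 : g • a = g' • a := hgg
      rw [mul_smul, h3, inv_smul_smul]
    exact (inv_mul_eq_one.1 (h _ _ h2)).symm
  have h2 : Function.Bijective fun g : H => g • a := by
    rw [Fintype.bijective_iff_injective_and_card]
    refine ⟨h1, ?_⟩
    rw [← Nat.card_eq_fintype_card, ← Nat.card_eq_fintype_card, hc]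
  exact h2.2 b

section Sylow

variable {G : Type*} [Group G] [Finite G] {p : ℕ} [hp : Fact p.Prime]

/-- the form of the hypothesis in `StU3` -/
theorem isTI_of_hyp (P : Sylow p G)
    (h : ∀ g : G, g ∉ normalizer ((P : Subgroup G) : Set G) → ∀ x ∈ (P : Subgroup G), g * x * g⁻¹ ∈ (P : Subgroup G) →
      x = 1) : IsTI p G := by
  refine Cfsg.Agent.H666.Link.isTI_of_conj P fun g hg => ?_
  rw [eq_bot_iff]
  rintro y ⟨hy, x, hx, hxy⟩
  have h1 : g * x * g⁻¹ = y := hxy
  have h2 := h g hg x hx (h1 ▸ hy)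
  rw [mem_bot, ← h1, h2, mul_one, mul_inv_cancel]

/-- `P` acts on the other Sylow subgroups -/
@[reducible] noncomputable def actOther (P : Sylow p G) : MulAction (P : Subgroup G) {Q : Sylow p G // Q ≠ P} where
  smul x Q := ⟨(x : G) • Q.1, fun h => Q.2 (by
    have h1 : (x : G)⁻¹ • P = P := Sylow.smul_eq_iff_mem_normalizer.2 (inv_mem (le_normalizer x.2))
    have h2 : (x : G)⁻¹ • ((x : G) • Q.1) = (x : G)⁻¹ • P := by rw [h]
    rwa [inv_smul_smul, h1] at h2)⟩
  one_smul Q := Subtype.ext (one_smul G Q.1)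
  mul_smul x y Q := Subtype.ext (mul_smul (x : G) (y : G) Q.1)

/-- a `p`-element normalizing a Sylow subgroup lies in it -/
theorem mem_of_smul_eq {Q : Sylow p G} {x : G} (hx : PElt p x) (h : x • Q = Q) : x ∈ Q := by
  have h1 : zpowers x ≤ normalizer ((Q : Subgroup G) : Set G) := by
    rw [zpowers_le]
    exact Sylow.smul_eq_iff_mem_normalizer.1 h
  have h2 : IsPGroup p ↥((Q : Subgroup G) ⊔ zpowers x) :=
    Q.isPGroup'.to_sup_of_normal_left' (isPGroup_zpowers hx) h1
  have h3 := Q.is_maximal' h2 le_sup_left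
  have h4 : x ∈ (Q : Subgroup G) ⊔ zpowers x := mem_sup_right (mem_zpowers x)
  rw [h3] at h4
  exact h4

theorem free_other (hTI : IsTI p G) (P : Sylow p G) (x : (P : Subgroup G)) (Q : {Q : Sylow p G // Q ≠ P})
    (h : (actOther P).smul x Q = Q) : x = 1 := by
  have h1 : (x : G) • Q.1 = Q.1 := congrArg Subtype.val h
  have h2 : (x : G) ∈ Q.1 := mem_of_smul_eq (pElt_of_mem P.isPGroup' x.2) h1
  by_contra hne
  exact Q.2 (hTI.sylow_eq h2 x.2 fun h3 => hne (Subtype.ext h3))

theorem card_other (P : Sylow p G) : Nat.card {Q : Sylow p G // Q ≠ P} = Nat.card (Sylow p G) - 1 := by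
  classical
  have : Fintype (Sylow p G) := Fintype.ofFinite _
  rw [Nat.card_eq_fintype_card, Fintype.card_subtype_compl, Fintype.card_subtype_eq, Nat.card_eq_fintype_card]

/-- **`|P|` divides `|Syl_p(G)| - 1`.** -/
theorem card_dvd (hTI : IsTI p G) (P : Sylow p G) : Nat.card P ∣ Nat.card (Sylow p G) - 1 := by
  rw [← card_other P]
  let _ := actOther P
  exact card_dvd_of_free fun x Q h => free_other hTI P x Q h

/-- **transitivity from the number of Sylow subgroups** -/
theorem conj_trans (hTI : IsTI p G) (P : Sylow p G) (hc : Nat.card (Sylow p G) = Nat.card P + 1) {Q R : Sylow p G}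
    (hQ : Q ≠ P) (hR : R ≠ P) : ∃ x ∈ (P : Subgroup G), x • Q = R := by
  let _ := actOther P
  obtain ⟨x, hx⟩ := orbit_eq_univ_of_free (fun x Q h => free_other hTI P x Q h)
    (by rw [card_other, hc, Nat.add_sub_cancel]) (⟨Q, hQ⟩ : {Q : Sylow p G // Q ≠ P}) ⟨R, hR⟩
  exact ⟨x, x.2, congrArg Subtype.val hx⟩

/-- `c • P = P` for `c` centralizing a nontrivial element of the TI subgroup `P` -/
theorem smul_eq_of_comm (hTI : IsTI p G) {P : Sylow p G} {a c : G} (ha : a ∈ P) (ha1 : a ≠ 1) (hc : c * a = a * c) :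
    c • P = P := by
  refine hTI.sylow_eq (x := a) ?_ ha ha1
  show a ∈ ((c • P : Sylow p G) : Subgroup G)
  rw [Sylow.coe_subgroup_smul]
  refine ⟨a, ha, ?_⟩
  show c * a * c⁻¹ = a
  rw [hc, mul_inv_cancel_right]

/-! ### the core -/

/-- **`O_{p'}(G)` centralizes `P`.** -/
theorem core_comm (hTI : IsTI p G) (P : Sylow p G) {A : Subgroup G} (hAP : A ≤ P) [IsMulCommutative A]
    (hA : ¬ IsCyclic A) {x y : G} (hx : x ∈ Cfsg.pPrimeCore p G) (hy : y ∈ (P : Subgroup G)) : x * y = y * x := by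
  have hcop : (Nat.card A).Coprime (Nat.card (Cfsg.pPrimeCore p G)) := by
    obtain ⟨k, hk⟩ := IsPGroup.iff_card.1 (P.isPGroup'.to_le hAP)
    rw [hk]
    exact (Lib.Cores.pPrimeCore_coprime (G := G) p).symm.pow_left k
  have hnorm : (Cfsg.pPrimeCore p G).Normal := inferInstance
  have h1 := Cfsg.Agent.S0058.result A (Cfsg.pPrimeCore p G) hA (by
    rw [normalizer_eq_top]
    exact le_top) hcop
  have h2 : Cfsg.pPrimeCore p G ≤ normalizer ((P : Subgroup G) : Set G) := by
    rw [← h1]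
    refine iSup_le fun a => iSup_le fun ha => ?_
    intro c hc
    refine Sylow.smul_eq_iff_mem_normalizer.1 (smul_eq_of_comm hTI (hAP ha.1) ha.2 ?_)
    have h3 := mem_centralizer_iff.1 hc.2 a rfl
    exact h3.symm
  have h3 : x * y * x⁻¹ * y⁻¹ ∈ (P : Subgroup G) ⊓ Cfsg.pPrimeCore p G := by
    constructor
    · exact (P : Subgroup G).mul_mem ((mem_normalizer_iff.1 (h2 hx) y).1 hy) ((P : Subgroup G).inv_mem hy)
    · have h4 : x * y * x⁻¹ * y⁻¹ = x * (y * x⁻¹ * y⁻¹) := by group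
      rw [h4]
      exact mul_mem hx (hnorm.conj_mem _ (inv_mem hx) y)
  have h4 : (P : Subgroup G) ⊓ Cfsg.pPrimeCore p G = ⊥ := by
    rw [← disjoint_iff]
    refine Subgroup.disjoint_of_coprime_natCard ?_
    obtain ⟨k, hk⟩ := IsPGroup.iff_card.1 P.isPGroup'
    rw [hk]
    exact (Lib.Cores.pPrimeCore_coprime (G := G) p).symm.pow_left k
  rw [h4, mem_bot, mul_inv_eq_one, mul_inv_eq_iff_eq_mul] at h3
  exact h3

/-- a noncyclic `p`-group, `p` odd -/
theorem exists_abelian (hp2 : p ≠ 2) (P : Sylow p G) (hnc : ¬ IsCyclic (P : Subgroup G)) :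
    ∃ A : Subgroup G, A ≤ P ∧ IsMulCommutative A ∧ ¬ IsCyclic A := by
  obtain ⟨A, -, hA, hA2⟩ := Cfsg.Agent.S0126.result hp2 P.2 hnc
  refine ⟨A.map (P : Subgroup G).subtype, ?_, ?_, ?_⟩
  · rintro _ ⟨a, _, rfl⟩
    exact a.2
  · refine ⟨⟨?_⟩⟩
    rintro ⟨_, a, ha, rfl⟩ ⟨_, b, hb, rfl⟩
    have h1 := hA.1.is_comm.comm (⟨a, ha⟩ : ↥A) ⟨b, hb⟩
    exact Subtype.ext (congrArg (fun z : ↥A => ((z : ↥(P : Subgroup G)) : G)) h1)
  · intro hc
    obtain ⟨g, hg⟩ := hc.exists_generator
    have h2 : orderOf g = Nat.card (A.map (P : Subgroup G).subtype) := orderOf_eq_card_of_forall_mem_zpowers hg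
    have h3 : g ^ p = 1 := by
      obtain ⟨_, a, ha, rfl⟩ := g
      have h1 : a ^ p = 1 := hA.2 a ha
      apply Subtype.ext
      show ((a : G)) ^ p = 1
      have := congrArg Subtype.val h1
      exact this
    have h4 := orderOf_dvd_of_pow_eq_one h3
    rw [h2, Subgroup.card_map_of_injective (Subgroup.subtype_injective _), hA2] at h4
    have h5 := Nat.le_of_dvd hp.out.pos h4
    have h6 := hp.out.one_lt
    nlinarith

theorem card_eq_card' {H : Type*} [Group H] [Finite H] (R R' : Sylow p H) : Nat.card R = Nat.card R' := by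
  rw [R.card_eq_multiplicity, R'.card_eq_multiplicity]

/-! ### normal subgroups -/

variable {K : Subgroup G} [hK : K.Normal]

theorem card_inf_smul (Q : Sylow p G) (g : G) :
    Nat.card ↥(((g • Q : Sylow p G) : Subgroup G) ⊓ K : Subgroup G) = Nat.card ↥((Q : Subgroup G) ⊓ K : Subgroup G) := by
  have h1 : (((g • Q : Sylow p G) : Subgroup G) ⊓ K : Subgroup G) =
      ((Q : Subgroup G) ⊓ K).map (MulAut.conj g).toMonoidHom := by
    rw [Subgroup.map_inf _ _ _ (MulAut.conj g).injective]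
    congr 1
    symm
    apply le_antisymm
    · rintro _ ⟨x, hx, rfl⟩
      exact hK.conj_mem x hx g
    · intro x hx
      refine ⟨g⁻¹ * x * g, ?_, ?_⟩
      · have := hK.conj_mem x hx g⁻¹
        rwa [inv_inv] at this
      · show g * (g⁻¹ * x * g) * g⁻¹ = x
        group
  rw [h1, Subgroup.card_map_of_injective (MulAut.conj g).injective]

/-- the intersection of a Sylow subgroup with a normal subgroup is Sylow -/
theorem exists_inf (Q : Sylow p G) : ∃ R : Sylow p ↥K, (R : Subgroup ↥K) = (Q : Subgroup G).subgroupOf K := by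
  classical
  obtain ⟨P₀⟩ : Nonempty (Sylow p ↥K) := inferInstance
  obtain ⟨Q₀, hQ₀⟩ := (P₀.isPGroup'.map K.subtype).exists_le_sylow
  obtain ⟨g, rfl⟩ := MulAction.exists_smul_eq G Q₀ Q
  have hp1 : IsPGroup p ↥(((g • Q₀ : Sylow p G) : Subgroup G).subgroupOf K) :=
    (g • Q₀ : Sylow p G).isPGroup'.comap_of_injective K.subtype K.subtype_injective
  obtain ⟨R, hR⟩ := hp1.exists_le_sylow
  refine ⟨R, (Subgroup.eq_of_le_of_card_ge hR ?_).symm⟩
  have h1 : Nat.card ↥(((g • Q₀ : Sylow p G) : Subgroup G).subgroupOf K) = Nat.card ↥((Q₀ : Subgroup G) ⊓ K : Subgroup G) := by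
    rw [← card_inf_smul Q₀ g, ← Subgroup.inf_subgroupOf_right]
    exact Nat.card_congr (Subgroup.subgroupOfEquivOfLe inf_le_right).toEquiv
  have h2 : Nat.card R = Nat.card P₀ := by
    exact card_eq_card' R P₀
  have h3 : Nat.card P₀ ≤ Nat.card ↥((Q₀ : Subgroup G) ⊓ K : Subgroup G) := by
    have h4 : (P₀ : Subgroup ↥K).map K.subtype ≤ (Q₀ : Subgroup G) ⊓ K := le_inf hQ₀ (Subgroup.map_subtype_le _)
    have h5 := Subgroup.card_le_of_le h4
    rwa [Subgroup.card_map_of_injective K.subtype_injective] at h5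
  rw [h1]
  exact h2.le.trans h3

theorem card_inf_dvd (Q : Sylow p G) (R : Sylow p ↥K) : Nat.card ↥((Q : Subgroup G) ⊓ K : Subgroup G) = Nat.card R := by
  obtain ⟨R', hR'⟩ := exists_inf (K := K) Q
  rw [card_eq_card' R R', show Nat.card R' = Nat.card ↥(R' : Subgroup ↥K) from rfl, hR', ← Subgroup.inf_subgroupOf_right]
  exact (Nat.card_congr (Subgroup.subgroupOfEquivOfLe inf_le_right).toEquiv).symm

/-- **`|Syl_p(K)| = |Syl_p(G)|` for a normal subgroup `K` of order divisible by `p`.** -/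
theorem card_sylow_normal (hTI : IsTI p G) (hd : p ∣ Nat.card ↥K) : Nat.card (Sylow p ↥K) = Nat.card (Sylow p G) := by
  classical
  choose f hf using fun Q : Sylow p G => exists_inf (K := K) Q
  refine (Nat.card_congr (Equiv.ofBijective f ⟨?_, ?_⟩)).symm
  · intro Q Q' h
    have h1 : (Q : Subgroup G).subgroupOf K = (Q' : Subgroup G).subgroupOf K := by rw [← hf, ← hf, h]
    have h2 : (f Q : Subgroup ↥K) ≠ ⊥ := by
      intro h3
      obtain ⟨k, hk⟩ := IsPGroup.iff_card.1 (f Q).isPGroup'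
      have h4 : p ∣ Nat.card (f Q) := (f Q).dvd_card_of_dvd_card hd
      rw [show Nat.card (f Q) = Nat.card ↥(f Q : Subgroup ↥K) from rfl, h3, Subgroup.card_bot] at h4
      exact hp.out.one_lt.ne' (Nat.dvd_one.1 h4)
    obtain ⟨x, hx⟩ := Subgroup.ne_bot_iff_exists_ne_one.1 h2
    have hxQ : (x.1 : G) ∈ Q := (hf Q).le x.2
    have hxQ' : (x.1 : G) ∈ Q' := h1.le ((hf Q).le x.2)
    refine hTI.sylow_eq hxQ hxQ' fun h3 => hx ?_
    exact Subtype.ext (Subtype.ext h3)
  · intro R
    obtain ⟨Q, hQ⟩ := (R.isPGroup'.map K.subtype).exists_le_sylow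
    refine ⟨Q, Sylow.ext ?_⟩
    symm
    refine Subgroup.eq_of_le_of_card_ge ?_ (card_eq_card' R (f Q)).ge
    intro x hx
    rw [hf]
    exact hQ ⟨x, hx, rfl⟩

end Sylow

end Cfsg.Agent.H367.PU
end

-- part: H367/PU/Quo
section
/-!
# S5258, PU-U3: TI Sylow subgroups and the quotient by a `p'`-core centralizing them (helper367)
-/

set_option autoImplicit false
set_option linter.unusedSectionVars false

namespace Cfsg.Agent.H367.PU

open Subgroup Cfsg.Agent.H666.TI
open scoped Pointwise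

variable {G : Type*} [Group G] [Finite G] {p : ℕ} [hp : Fact p.Prime]

/-- `N` is a normal `p'`-subgroup centralizing all Sylow `p`-subgroups -/
structure CQ (p : ℕ) (N : Subgroup G) : Prop where
  normal : N.Normal
  cop : (Nat.card N).Coprime p
  comm : ∀ Q : Sylow p G, ∀ x ∈ N, ∀ y ∈ Q, x * y = y * x

variable {N : Subgroup G}

theorem eq_one_of_mul (hN : (Nat.card N).Coprime p) {x o : G} (hx : PElt p x) (ho : o ∈ N) (hc : o * x = x * o)
    (hxo : PElt p (x * o)) : o = 1 := by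
  obtain ⟨k, hk⟩ := hx
  obtain ⟨l, hl⟩ := hxo
  have h1 : o ^ p ^ (k + l) = 1 := by
    have h2 : (x * o) ^ p ^ (k + l) = x ^ p ^ (k + l) * o ^ p ^ (k + l) := (show Commute x o from hc.symm).mul_pow _
    have h3 : (x * o) ^ p ^ (k + l) = 1 := by rw [pow_add, mul_comm, pow_mul, hl, one_pow]
    have h4 : x ^ p ^ (k + l) = 1 := by rw [pow_add, pow_mul, hk, one_pow]
    rw [h3, h4, one_mul] at h2
    exact h2.symm
  refine PElt.eq_one (p := p) ⟨_, h1⟩ (n := Nat.card N) ?_ ?_
  · have h5 := pow_card_eq_one' (x := (⟨o, ho⟩ : N))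
    exact congrArg Subtype.val h5
  · intro h6
    exact hp.out.one_lt.ne' (Nat.eq_one_of_dvd_coprimes hN h6 dvd_rfl)

namespace CQ

variable (hN : CQ p N)
include hN

theorem le_of_map_le {Q R : Sylow p G} (h : ∀ r ∈ R, ∃ x ∈ Q, x⁻¹ * r ∈ N) : R = Q := by
  have h1 : (R : Subgroup G) ≤ Q := by
    intro r hr
    obtain ⟨x, hx, hxr⟩ := h r hr
    have h2 : x⁻¹ * r = 1 := by
      refine eq_one_of_mul hN.cop (pElt_of_mem Q.isPGroup' hx) hxr (hN.comm Q _ hxr x hx) ?_
      rw [mul_inv_cancel_left]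
      exact pElt_of_mem R.isPGroup' hr
    have h3 : r = x := (inv_mul_eq_one.1 h2).symm
    rw [h3]
    exact hx
  exact (Sylow.ext (R.is_maximal' Q.isPGroup' h1)).symm

theorem inj {Q R : Sylow p G} [N.Normal]
    (h : (Q : Subgroup G).map (QuotientGroup.mk' N) = (R : Subgroup G).map (QuotientGroup.mk' N)) : Q = R := by
  refine hN.le_of_map_le fun r hr => ?_
  have h1 : QuotientGroup.mk' N r ∈ (R : Subgroup G).map (QuotientGroup.mk' N) := h ▸ ⟨r, hr, rfl⟩
  obtain ⟨x, hx, hxr⟩ := h1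
  exact ⟨x, hx, QuotientGroup.eq.1 hxr⟩

omit hN in
theorem exists_lift [N.Normal] (Q : Sylow p (G ⧸ N)) :
    ∃ P : Sylow p G, (P : Subgroup G).map (QuotientGroup.mk' N) = Q := by
  obtain ⟨P, hP⟩ := Sylow.mapSurjective_surjective (QuotientGroup.mk'_surjective N) p Q
  exact ⟨P, congrArg (fun R : Sylow p (G ⧸ N) => (R : Subgroup (G ⧸ N))) hP⟩

theorem isTI [N.Normal] (hTI : IsTI p G) : IsTI p (G ⧸ N) := by
  refine isTI_of_sylow fun P Q x hxP hxQ hx => ?_
  obtain ⟨P, hP⟩ := exists_lift P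
  obtain ⟨Q, hQ⟩ := exists_lift Q
  have h1 : x ∈ (P : Subgroup G).map (QuotientGroup.mk' N) := hP ▸ hxP
  have h2 : x ∈ (Q : Subgroup G).map (QuotientGroup.mk' N) := hQ ▸ hxQ
  obtain ⟨y, hy, hyx⟩ := h1
  obtain ⟨z, hz, hzx⟩ := h2
  have h3 : y⁻¹ * z ∈ N := QuotientGroup.eq.1 (hyx.trans hzx.symm)
  have h4 : y⁻¹ * z = 1 := by
    refine eq_one_of_mul hN.cop (pElt_of_mem P.isPGroup' hy) h3 (hN.comm P _ h3 y hy) ?_
    rw [mul_inv_cancel_left]
    exact pElt_of_mem Q.isPGroup' hz
  have h5 : y = z := inv_mul_eq_one.1 h4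
  have h6 : P = Q := by
    refine hTI.sylow_eq hy (h5 ▸ hz) ?_
    rintro rfl
    exact hx (hyx ▸ map_one _)
  apply Sylow.ext
  rw [← hP, ← hQ, h6]

theorem injOn [N.Normal] (P : Sylow p G) {x y : G} (hx : x ∈ P) (hy : y ∈ P)
    (h : QuotientGroup.mk' N x = QuotientGroup.mk' N y) : x = y := by
  have h3 : x⁻¹ * y ∈ N := QuotientGroup.eq.1 h
  have h4 : x⁻¹ * y = 1 := by
    refine eq_one_of_mul hN.cop (pElt_of_mem P.isPGroup' hx) h3 (hN.comm P _ h3 x hx) ?_
    rw [mul_inv_cancel_left]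
    exact pElt_of_mem P.isPGroup' hy
  exact inv_mul_eq_one.1 h4

/-- the isomorphism of a Sylow subgroup with its image -/
theorem exists_equiv [N.Normal] {P : Sylow p G} {P' : Sylow p (G ⧸ N)}
    (h : (P : Subgroup G).map (QuotientGroup.mk' N) = P') :
    ∃ e : (P : Subgroup G) ≃* (P' : Subgroup (G ⧸ N)), ∀ x, ((e x : (P' : Subgroup (G ⧸ N))) : G ⧸ N) = QuotientGroup.mk' N x := by
  have h1 : Function.Injective ((QuotientGroup.mk' N).subgroupMap (P : Subgroup G)) := by
    intro x y hxy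
    exact Subtype.ext (hN.injOn P x.2 y.2 (congrArg Subtype.val hxy))
  let e := (MulEquiv.ofBijective ((QuotientGroup.mk' N).subgroupMap (P : Subgroup G))
    ⟨h1, (QuotientGroup.mk' N).subgroupMap_surjective _⟩).trans (MulEquiv.subgroupCongr h)
  exact ⟨e, fun x => rfl⟩

theorem card_sylow [N.Normal] : Nat.card (Sylow p (G ⧸ N)) = Nat.card (Sylow p G) := by
  refine (Nat.card_congr (Equiv.ofBijective (fun P : Sylow p G => P.mapSurjective (QuotientGroup.mk'_surjective N)) ⟨?_, ?_⟩)).symm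
  · intro P Q h
    exact hN.inj (congrArg (fun R : Sylow p (G ⧸ N) => (R : Subgroup (G ⧸ N))) h)
  · exact Sylow.mapSurjective_surjective (QuotientGroup.mk'_surjective N) p

end CQ

end Cfsg.Agent.H367.PU
end
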